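import Mathlib
import Cfsg.Prelude
import Cfsg.Agent.Helper9.J3Z.Abs

set_option autoImplicit false

/-! An involution whose centralizer is the product of a normal extraspecial subgroup of order 32
and a complement isomorphic to the alternating group of degree five, from properties of
elements. -/

namespace Cfsg.Agent.Helper9.J2C

open Cfsg

/-- the properties of elements. -/
structure CData {X : Type*} [Group X] (t : X) (Q H : Subgroup X) : Prop where
  tQ : t ∈ Q
  t1 : t ≠ 1
  cardQ : Nat.card Q = 32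
  cardH : Nat.card H = 60
  cardC : Nat.card (Subgroup.centralizer ({t} : Set X)) ≤ 1920
  hQC : ∀ q ∈ Q, q * t = t * q
  hHC : ∀ h ∈ H, h * t = t * h
  norm : ∀ h ∈ H, ∀ q ∈ Q, h * q * h⁻¹ ∈ Q
  disj : ∀ x ∈ Q, x ∈ H → x = 1
  comm : ∀ x ∈ Q, ∀ y ∈ Q, x * y * x⁻¹ * y⁻¹ = 1 ∨ x * y * x⁻¹ * y⁻¹ = t
  sq : ∀ x ∈ Q, x * x = 1 ∨ x * x = t
  center : ∀ x ∈ Q, (∀ y ∈ Q, x * y = y * x) → x = 1 ∨ x = t
  isoH : Nonempty (↥H ≃* ↥(alternatingGroup (Fin 5)))

namespace CData

variable {X : Type*} [Group X] {t : X} {Q H : Subgroup X}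

theorem main [Finite X] (h : CData t Q H) :
    ∃ (Q' : Subgroup ↥(Subgroup.centralizer ({t} : Set X))) (_ : Q'.Normal),
      Nat.card Q' = 32 ∧ IsExtraspecial 2 Q' ∧
      Nonempty (↥(Subgroup.centralizer ({t} : Set X)) ⧸ Q' ≃* ↥(alternatingGroup (Fin 5))) := by
  let C : Subgroup X := Subgroup.centralizer ({t} : Set X)
  have hQC : Q ≤ C := fun q hq => Subgroup.mem_centralizer_singleton_iff.mpr (h.hQC q hq)
  have hHC : H ≤ C := fun q hq => Subgroup.mem_centralizer_singleton_iff.mpr (h.hHC q hq)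
  have hcard : Nat.card C = Nat.card Q * Nat.card H := by
    apply le_antisymm
    · rw [h.cardQ, h.cardH]
      exact h.cardC
    · rw [← Nat.card_prod]
      let f : ↥Q × ↥H → ↥C := fun p => ⟨(p.1 : X) * (p.2 : X), C.mul_mem (hQC p.1.2) (hHC p.2.2)⟩
      have hf : Function.Injective f := by
        rintro ⟨a, b⟩ ⟨c, d⟩ hab
        have h1 : (a : X) * b = c * d := congrArg Subtype.val hab
        have h2 : (c : X)⁻¹ * a = d * (b : X)⁻¹ := by
          rw [inv_mul_eq_iff_eq_mul, ← mul_assoc, ← h1, mul_inv_cancel_right]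
        have h3 : (c : X)⁻¹ * a = 1 :=
          h.disj _ (Q.mul_mem (Q.inv_mem c.2) a.2) (h2 ▸ H.mul_mem d.2 (H.inv_mem b.2))
        have h4 : (d : X) * (b : X)⁻¹ = 1 := by rw [← h2, h3]
        apply Prod.ext
        · exact Subtype.ext (inv_mul_eq_one.mp h3).symm
        · exact Subtype.ext (mul_inv_eq_one.mp h4).symm
      exact Nat.card_le_card_of_injective f hf
  obtain ⟨hnorm, ⟨e⟩⟩ := Cfsg.Agent.Helper9.Trio.split_structure C Q H hQC hHC h.norm h.disj hcard
  obtain ⟨eH⟩ := h.isoH
  refine ⟨Q.subgroupOf C, hnorm, ?_, ?_, ⟨e.trans eH⟩⟩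
  · rw [Nat.card_congr (Subgroup.subgroupOfEquivOfLe hQC).toEquiv, h.cardQ]
  · apply Cfsg.Agent.Helper9.J3Z.extraspecial_of (Q.subgroupOf C) ⟨t, hQC h.tQ⟩
    · exact Subgroup.mem_subgroupOf.mpr h.tQ
    · intro e1
      exact h.t1 (congrArg Subtype.val e1)
    · rw [Nat.card_congr (Subgroup.subgroupOfEquivOfLe hQC).toEquiv, h.cardQ]
      norm_num
    · intro x hx y hy
      rcases h.comm x (Subgroup.mem_subgroupOf.mp hx) y (Subgroup.mem_subgroupOf.mp hy) with e1 | e1
      · left
        exact Subtype.ext e1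
      · right
        exact Subtype.ext e1
    · intro x hx
      rcases h.sq x (Subgroup.mem_subgroupOf.mp hx) with e1 | e1
      · left
        exact Subtype.ext e1
      · right
        exact Subtype.ext e1
    · intro x hx hall
      have : ∀ y ∈ Q, (x : X) * y = y * x := by
        intro y hy
        exact congrArg Subtype.val (hall ⟨y, hQC hy⟩ (Subgroup.mem_subgroupOf.mpr hy))
      rcases h.center x (Subgroup.mem_subgroupOf.mp hx) this with e1 | e1
      · left
        exact Subtype.ext e1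
      · right
        exact Subtype.ext e1
    · intro y hy
      exact Subtype.ext (h.hQC y (Subgroup.mem_subgroupOf.mp hy))

/-- the properties are carried along isomorphisms. -/
theorem map {X' : Type*} [Group X'] (φ : X ≃* X') (h : CData t Q H) :
    CData (φ t) (Q.map φ.toMonoidHom) (H.map φ.toMonoidHom) where
  tQ := ⟨t, h.tQ, rfl⟩
  t1 := by
    intro e
    apply h.t1
    apply φ.injective
    rw [e, map_one]
  cardQ := by rw [Subgroup.card_map_of_injective φ.injective]; exact h.cardQ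
  cardH := by rw [Subgroup.card_map_of_injective φ.injective]; exact h.cardH
  cardC := by
    refine le_trans (le_of_eq ?_) h.cardC
    apply Nat.card_congr
    refine ⟨fun x => ⟨φ.symm x.1, ?_⟩, fun x => ⟨φ x.1, ?_⟩, ?_, ?_⟩
    · have hx := Subgroup.mem_centralizer_singleton_iff.mp x.2
      rw [Subgroup.mem_centralizer_singleton_iff]
      apply φ.injective
      rw [map_mul, map_mul, MulEquiv.apply_symm_apply]
      exact hx
    · have hx := Subgroup.mem_centralizer_singleton_iff.mp x.2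
      rw [Subgroup.mem_centralizer_singleton_iff, ← map_mul, ← map_mul, hx]
    · intro x
      apply Subtype.ext
      exact φ.apply_symm_apply x.1
    · intro x
      apply Subtype.ext
      exact φ.symm_apply_apply x.1
  hQC := by
    rintro _ ⟨q, hq, rfl⟩
    change φ q * φ t = φ t * φ q
    rw [← map_mul, ← map_mul, h.hQC q hq]
  hHC := by
    rintro _ ⟨q, hq, rfl⟩
    change φ q * φ t = φ t * φ q
    rw [← map_mul, ← map_mul, h.hHC q hq]
  norm := by
    rintro _ ⟨k, hk, rfl⟩ _ ⟨q, hq, rfl⟩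
    refine ⟨k * q * k⁻¹, h.norm k hk q hq, ?_⟩
    change φ (k * q * k⁻¹) = φ k * φ q * (φ k)⁻¹
    rw [map_mul, map_mul, map_inv]
  disj := by
    rintro _ ⟨q, hq, rfl⟩ ⟨k, hk, e⟩
    have e' : k = q := φ.injective e
    rw [e'] at hk
    change φ q = 1
    rw [h.disj q hq hk, map_one]
  comm := by
    rintro _ ⟨x, hx, rfl⟩ _ ⟨y, hy, rfl⟩
    change φ x * φ y * (φ x)⁻¹ * (φ y)⁻¹ = 1 ∨ φ x * φ y * (φ x)⁻¹ * (φ y)⁻¹ = φ t
    rw [← map_inv, ← map_inv, ← map_mul, ← map_mul, ← map_mul]
    rcases h.comm x hx y hy with e | e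
    · left
      rw [e, map_one]
    · right
      rw [e]
  sq := by
    rintro _ ⟨x, hx, rfl⟩
    change φ x * φ x = 1 ∨ φ x * φ x = φ t
    rw [← map_mul]
    rcases h.sq x hx with e | e
    · left
      rw [e, map_one]
    · right
      rw [e]
  center := by
    rintro _ ⟨x, hx, rfl⟩ hall
    change φ x = 1 ∨ φ x = φ t
    have : ∀ y ∈ Q, x * y = y * x := by
      intro y hy
      apply φ.injective
      rw [map_mul, map_mul]
      exact hall _ ⟨y, hy, rfl⟩
    rcases h.center x hx this with e | e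
    · left
      rw [e, map_one]
    · right
      rw [e]
  isoH := by
    obtain ⟨e⟩ := h.isoH
    exact ⟨(H.equivMapOfInjective φ.toMonoidHom φ.injective).symm.trans e⟩

end CData

end Cfsg.Agent.Helper9.J2C
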