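import Mathlib
import Cfsg.Agent.Helper9.J2O.Chk
import Cfsg.Agent.Helper9.OutG.WSub
import Cfsg.Agent.Helper9.J2C.Data

set_option autoImplicit false

/-! The checks on the data of the centralizer of an involution of the Hall–Janko group. -/

noncomputable section

namespace Cfsg.Agent.Helper9.J2C

open Cfsg.Agent.Helper9.OutG Cfsg.Agent.Helper9.J3 Cfsg.Agent.Helper9.J2O

/-- the normal subgroup of order 32. -/
def SQ : WSD := ⟨32, nthW cwQ, fun i j => lkF 6 63 mQP (Nat.add (Nat.mul i 32) j)⟩

/-- the complement of order 60. -/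
def SH : WSD := ⟨60, nthW cwH, fun i j => lkF 6 63 mHP (Nat.add (Nat.mul i 60) j)⟩

set_option maxRecDepth 1000000 in
theorem SQ_mul : mulChk dD dC SQ = true := by decide +kernel

set_option maxRecDepth 1000000 in
theorem SQ_inj : injChk dD dC SQ = true := by decide +kernel

set_option maxRecDepth 1000000 in
theorem SH_mul : mulChk dD dC SH = true := by decide +kernel

set_option maxRecDepth 1000000 in
theorem SH_inj : injChk dD dC SH = true := by decide +kernel

theorem hbs : ∀ b ∈ dC.bs, b < dD.n := by decide

theorem SQ_ok : WSOK dD dC SQ := ⟨by decide, by decide, SQ_mul, SQ_inj, hbs⟩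

theorem SH_ok : WSOK dD dC SH := ⟨by decide, by decide, SH_mul, SH_inj, hbs⟩

set_option maxRecDepth 1000000 in
theorem commQ_b : allB (fun i => agreeL dC.bs (fun x => wF dD SQ i (T dD 0 x))
    (fun x => T dD 0 (wF dD SQ i x))) 32 = true := by decide +kernel

set_option maxRecDepth 1000000 in
theorem commH_b : allB (fun i => agreeL dC.bs (fun x => wF dD SH i (T dD 0 x))
    (fun x => T dD 0 (wF dD SH i x))) 60 = true := by decide +kernel

set_option maxRecDepth 1000000 in
theorem disj_b : allB (fun i => allB (fun j => orB (andB (Nat.beq i 0) (Nat.beq j 0))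
    (notB (agreeL dC.bs (wF dD SQ i) (wF dD SH j)))) 60) 32 = true := by decide +kernel

/-- the number of the conjugate of an element of the normal subgroup by an element of the
complement. -/
def cjF (h q : ℕ) : ℕ := lkF 6 63 cjP (Nat.add (Nat.mul h 32) q)

set_option maxRecDepth 1000000 in
theorem norm_b : allB (fun h => allB (fun q => andB (ltB (cjF h q) 32)
    (agreeL dC.bs (fun x => wF dD SH h (wF dD SQ q x))
      (fun x => wF dD SQ (cjF h q) (wF dD SH h x)))) 32) 60 = true := by decide +kernel

theorem itQ_word : SQ.cw 1 = [0] := by decide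

theorem Q_comm_idx : ∀ i < 32, ∀ j < 32,
    SQ.m i j = SQ.m j i ∨ SQ.m i j = SQ.m 1 (SQ.m j i) := by decide +kernel

theorem Q_sq_idx : ∀ i < 32, SQ.m i i = 0 ∨ SQ.m i i = 1 := by decide +kernel

theorem Q_center_idx : ∀ i < 32, (∀ j < 32, SQ.m i j = SQ.m j i) → i = 0 ∨ i = 1 := by
  decide +kernel

/-- the image of a point of five under an element of the complement. -/
def a5pt (i x : ℕ) : ℕ := Nat.land (Nat.shiftRight (lkF 15 32767 a5P i) (Nat.mul 3 x)) 7

theorem a5_ok : ∀ i < 60, ∀ j < 60, ∀ x < 5,
    a5pt j x < 5 ∧ a5pt (SH.m i j) x = a5pt i (a5pt j x) := by decide +kernel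

theorem a5_inj : ∀ i < 60, (∀ x < 5, a5pt i x = x) → i = 0 := by decide +kernel

theorem a5_one : ∀ x < 5, a5pt 0 x = x := by decide +kernel

/-- the function of a conjugate of the involution. -/
def cF (i x : ℕ) : ℕ := evalT dD (nthW cwC i) (T dD 0 (evalI dD (nthW cwC i) x))

set_option maxRecDepth 1000000 in
theorem cl_fix : allB (fun i => Nat.beq (cF i 83) 83) 11 = true := by decide +kernel

set_option maxRecDepth 1000000 in
theorem cl_inj : allB (fun i => allB (fun j => orB (Nat.beq i j)
    (notB (agreeL dC.bs (cF i) (cF j)))) 11) 11 = true := by decide +kernel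

set_option maxRecDepth 1000000 in
theorem sup_b : Nat.beq (sumF (fun x => Bool.rec 1 0 (Nat.beq (T dD 0 x) x)) dD.n) 304 = true := by
  decide +kernel

end Cfsg.Agent.Helper9.J2C

end
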