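import Mathlib
import Cfsg.Agent.Helper9.J2C.Abs
import Cfsg.Agent.Helper9.J2C.Chk
import Cfsg.Agent.Helper9.J2O.Final
import Cfsg.Agent.Helper9.HeC.Abs
import Cfsg.Agent.Helper9.J2B.Trans

set_option autoImplicit false

/-! The centralizer of a reflection in the Hall–Janko group. -/

noncomputable section

namespace Cfsg.Agent.Helper9.J2C

open Cfsg Cfsg.Agent.Helper9.OutG Cfsg.Agent.Helper9.J3 Cfsg.Agent.Helper9.J2O
  Cfsg.Agent.Helper9.J2B

/-- the group of the tables. -/
abbrev X : Type := ↥(GS core)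

/-- the normal subgroup of order 32. -/
def Q0 : Subgroup X := wSub core card_GS SQ_ok

/-- the complement of order 60. -/
def H0 : Subgroup X := wSub core card_GS SH_ok

/-- the involution. -/
def t0 : X := gE core 0

theorem t0_eq : t0 = wE core SQ 1 := by
  unfold t0 wE
  rw [itQ_word, gW_single]

theorem lt_SQ {i : ℕ} (hi : i < 32) : i < SQ.M := hi

theorem lt_SH {i : ℕ} (hi : i < 60) : i < SH.M := hi

theorem t0_mem : t0 ∈ Q0 := ⟨1, lt_SQ (by norm_num), t0_eq⟩

theorem t0_ne : t0 ≠ 1 := by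
  intro e
  rw [t0_eq, ← wE_zero core SQ_ok] at e
  have := wE_inj core SQ_ok (lt_SQ (by norm_num : 1 < 32)) (lt_SQ (by norm_num : 0 < 32)) e
  omega

theorem mem_Q0 {x : X} (hx : x ∈ Q0) : ∃ i, i < 32 ∧ x = wE core SQ i := hx

theorem mem_H0 {x : X} (hx : x ∈ H0) : ∃ i, i < 60 ∧ x = wE core SH i := hx

theorem card_Q0 : Nat.card Q0 = 32 := card_wSub core card_GS SQ_ok

theorem card_H0 : Nat.card H0 = 60 := card_wSub core card_GS SH_ok

theorem Q0_comm_t0 : ∀ q ∈ Q0, q * t0 = t0 * q := by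
  intro q hq
  obtain ⟨i, hi, rfl⟩ := mem_Q0 hq
  exact eq_of_agreeL core card_GS (Comp.coe_mul core (comp_wE core SQ i) (comp_gE core 0))
    (Comp.coe_mul core (comp_gE core 0) (comp_wE core SQ i)) (allB_true commQ_b hi)

theorem H0_comm_t0 : ∀ q ∈ H0, q * t0 = t0 * q := by
  intro q hq
  obtain ⟨i, hi, rfl⟩ := mem_H0 hq
  exact eq_of_agreeL core card_GS (Comp.coe_mul core (comp_wE core SH i) (comp_gE core 0))
    (Comp.coe_mul core (comp_gE core 0) (comp_wE core SH i)) (allB_true commH_b hi)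

theorem H0_norm : ∀ h ∈ H0, ∀ q ∈ Q0, h * q * h⁻¹ ∈ Q0 := by
  intro h hh q hq
  obtain ⟨j, hj, rfl⟩ := mem_H0 hh
  obtain ⟨i, hi, rfl⟩ := mem_Q0 hq
  have hb := andB_true (allB_true (allB_true norm_b hj) hi)
  have e : wE core SH j * wE core SQ i = wE core SQ (cjF j i) * wE core SH j :=
    eq_of_agreeL core card_GS (Comp.coe_mul core (comp_wE core SH j) (comp_wE core SQ i))
      (Comp.coe_mul core (comp_wE core SQ (cjF j i)) (comp_wE core SH j)) hb.2
  rw [e, mul_inv_cancel_right]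
  exact ⟨cjF j i, ltB_true hb.1, rfl⟩

theorem Q0_H0_disj : ∀ x ∈ Q0, x ∈ H0 → x = 1 := by
  intro x hx hx'
  obtain ⟨i, hi, rfl⟩ := mem_Q0 hx
  obtain ⟨j, hj, e⟩ := mem_H0 hx'
  rcases orB_true (allB_true (allB_true disj_b hi) hj) with h1 | h1
  · rw [Nat.eq_of_beq_eq_true (andB_true h1).1]
    exact wE_zero core SQ_ok
  · have h2 := notB_true h1
    have h3 : agreeL dC.bs (wF dD SQ i) (wF dD SH j) = true := by
      apply agreeL_of
      intro β hβ
      exact Comp.all_of_eq (comp_wE core SQ i) (comp_wE core SH j) (congrArg Subtype.val e)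
        (hbs β hβ)
    rw [h2] at h3
    exact absurd h3 Bool.false_ne_true

theorem Q_elmul {i j : ℕ} (hi : i < 32) (hj : j < 32) :
    wE core SQ i * wE core SQ j = wE core SQ (SQ.m i j) := wE_mul core card_GS SQ_ok hi hj

theorem Q_m_lt {i j : ℕ} (hi : i < 32) (hj : j < 32) : SQ.m i j < 32 := wm_lt SQ_ok hi hj

theorem Q_elinj {i j : ℕ} (hi : i < 32) (hj : j < 32) (e : wE core SQ i = wE core SQ j) : i = j :=
  wE_inj core SQ_ok hi hj e

theorem Q_el_zero : wE core SQ 0 = 1 := wE_zero core SQ_ok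

theorem Q0_comm : ∀ x ∈ Q0, ∀ y ∈ Q0, x * y * x⁻¹ * y⁻¹ = 1 ∨ x * y * x⁻¹ * y⁻¹ = t0 := by
  intro x hx y hy
  obtain ⟨i, hi, rfl⟩ := mem_Q0 hx
  obtain ⟨j, hj, rfl⟩ := mem_Q0 hy
  rcases Q_comm_idx i hi j hj with h | h
  · left
    have : wE core SQ i * wE core SQ j = wE core SQ j * wE core SQ i := by
      rw [Q_elmul hi hj, Q_elmul hj hi, h]
    rw [this]
    group
  · right
    have : wE core SQ i * wE core SQ j = t0 * (wE core SQ j * wE core SQ i) := by
      rw [Q_elmul hi hj, Q_elmul hj hi, t0_eq, Q_elmul (by norm_num) (Q_m_lt hj hi), h]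
    rw [this]
    group

theorem Q0_sq : ∀ x ∈ Q0, x * x = 1 ∨ x * x = t0 := by
  intro x hx
  obtain ⟨i, hi, rfl⟩ := mem_Q0 hx
  rw [Q_elmul hi hi]
  rcases Q_sq_idx i hi with h | h
  · left
    rw [h]
    exact Q_el_zero
  · right
    rw [h, t0_eq]

theorem Q0_center : ∀ x ∈ Q0, (∀ y ∈ Q0, x * y = y * x) → x = 1 ∨ x = t0 := by
  intro x hx hall
  obtain ⟨i, hi, rfl⟩ := mem_Q0 hx
  have : ∀ j < 32, SQ.m i j = SQ.m j i := by
    intro j hj
    apply Q_elinj (Q_m_lt hi hj) (Q_m_lt hj hi)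
    rw [← Q_elmul hi hj, ← Q_elmul hj hi]
    exact hall _ ⟨j, hj, rfl⟩
  rcases Q_center_idx i hi this with h | h
  · left
    rw [h]
    exact Q_el_zero
  · right
    rw [h, t0_eq]

/-! ### the complement is the alternating group of degree five -/

/-- the map of the five points of a number. -/
def a5map (i : ℕ) : Function.End (Fin 5) :=
  fun x => ⟨a5pt i x.val % 5, Nat.mod_lt _ (by norm_num)⟩

theorem a5map_zero : a5map 0 = 1 := by
  funext x
  apply Fin.ext
  change a5pt 0 x.val % 5 = x.val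
  rw [a5_one x.val x.isLt]
  exact Nat.mod_eq_of_lt x.isLt

theorem a5map_mul : ∀ i, i < SH.M → ∀ j, j < SH.M → a5map (SH.m i j) = a5map i * a5map j := by
  intro i hi j hj
  funext x
  apply Fin.ext
  change a5pt (SH.m i j) x.val % 5 = a5pt i (a5pt j x.val % 5) % 5
  obtain ⟨h1, h2⟩ := a5_ok i hi j hj x.val x.isLt
  rw [Nat.mod_eq_of_lt h1, h2]

/-- the action of the complement on five points. -/
def a5hom : ↥H0 →* Equiv.Perm (Fin 5) :=
  (Equiv.Perm.equivUnitsEnd (α := Fin 5)).symm.toMonoidHom.comp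
    (wHom core card_GS SH_ok a5map a5map_zero a5map_mul).toHomUnits

theorem a5hom_apply (g : ↥H0) (x : Fin 5) :
    a5hom g x = a5map (wIdx core card_GS SH_ok g) x := rfl

theorem a5hom_injective : Function.Injective a5hom := by
  rw [injective_iff_map_eq_one]
  intro g hg
  have hlt : wIdx core card_GS SH_ok g < 60 := wIdx_lt core card_GS SH_ok g
  have h1 : ∀ x < 5, a5pt (wIdx core card_GS SH_ok g) x = x := by
    intro x hx
    have h2 := congrArg Fin.val (a5hom_apply g ⟨x, hx⟩)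
    rw [hg] at h2
    change x = a5pt (wIdx core card_GS SH_ok g) x % 5 at h2
    have h3 := (a5_ok 0 (by norm_num) _ hlt x hx).1
    rw [Nat.mod_eq_of_lt h3] at h2
    exact h2.symm
  have h4 := a5_inj _ hlt h1
  apply Subtype.ext
  rw [wIdx_spec core card_GS SH_ok g, h4]
  exact wE_zero core SH_ok

theorem a5hom_range : a5hom.range = alternatingGroup (Fin 5) := by
  apply Equiv.Perm.eq_alternatingGroup_of_index_eq_two
  have h1 : Nat.card a5hom.range = 60 := by
    rw [← Nat.card_congr (MonoidHom.ofInjective a5hom_injective).toEquiv]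
    exact card_H0
  have h2 := Subgroup.card_mul_index a5hom.range
  rw [h1, Nat.card_perm, Nat.card_fin] at h2
  have : Nat.factorial 5 = 120 := by decide
  omega

theorem H0_iso : Nonempty (↥H0 ≃* ↥(alternatingGroup (Fin 5))) :=
  ⟨(MonoidHom.ofInjective a5hom_injective).trans (MulEquiv.subgroupCongr a5hom_range)⟩

/-! ### the order of the centralizer -/

theorem smul_def (g : X) (q : Fin dD.n) : g • q = g.1 q := rfl

theorem n_eq : dD.n = 315 := rfl

theorem comp_t0 : Comp t0.1 (T dD 0) := comp_gE core 0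

instance pretransitive : MulAction.IsPretransitive X (Fin dD.n) := by
  constructor
  intro x y
  obtain ⟨σ, hσ, h1⟩ := G315_trans x
  obtain ⟨τ, hτ, h2⟩ := G315_trans y
  have hmem : τ * σ⁻¹ ∈ GS core := by
    rw [grp_eq]
    exact G315.mul_mem hτ (G315.inv_mem hσ)
  refine ⟨⟨τ * σ⁻¹, hmem⟩, ?_⟩
  change τ (σ⁻¹ x) = y
  rw [← h1, ← h2]
  congr 1
  exact σ.symm_apply_apply 0

/-- the conjugates of the involution that fix a point. -/
def cG (i : ℕ) : X := gW core (nthW cwC i) * t0 * (gW core (nthW cwC i))⁻¹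

theorem comp_cG (i : ℕ) : Comp (cG i).1 (cF i) := by
  have h1 : Comp (gW core (nthW cwC i) * t0).1 (fun z => evalT dD (nthW cwC i) (T dD 0 z)) :=
    Comp.coe_mul core (f := evalT dD (nthW cwC i)) (f' := T dD 0) (comp_gW core _) comp_t0
  exact Comp.coe_mul core (f := fun z => evalT dD (nthW cwC i) (T dD 0 z))
    (f' := evalI dD (nthW cwC i)) h1 (comp_gW_inv core _)

theorem cG_inj : ∀ i < 11, ∀ j < 11, cG i = cG j → i = j := by
  intro i hi j hj e
  rcases orB_true (allB_true (allB_true cl_inj hi) hj) with h1 | h1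
  · exact Nat.eq_of_beq_eq_true h1
  · have h2 := notB_true h1
    have h3 : agreeL dC.bs (cF i) (cF j) = true := by
      apply agreeL_of
      intro β hβ
      exact Comp.all_of_eq (comp_cG i) (comp_cG j) (congrArg Subtype.val e) (hbs β hβ)
    rw [h2] at h3
    exact absurd h3 Bool.false_ne_true

theorem card_fix_t0 : (Finset.univ.filter fun q : Fin dD.n => t0 • q = q).card = 11 := by
  have hs : (t0.1).support.card = 304 := by
    have h1 := card_support_gE core 0
    rw [Nat.eq_of_beq_eq_true sup_b] at h1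
    exact h1
  have h2 := Finset.card_filter_add_card_filter_not (s := (Finset.univ : Finset (Fin dD.n)))
    (fun q : Fin dD.n => t0 • q = q)
  have h3 : (Finset.univ.filter fun q : Fin dD.n => ¬ t0 • q = q) = (t0.1).support := by
    ext q
    rw [Finset.mem_filter, Equiv.Perm.mem_support]
    constructor
    · rintro ⟨-, h⟩
      exact h
    · intro h
      exact ⟨Finset.mem_univ _, h⟩
  rw [h3, hs, Finset.card_univ, Fintype.card_fin] at h2
  generalize (Finset.univ.filter fun q : Fin dD.n => t0 • q = q).card = a at h2 ⊢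
  change a + 304 = 315 at h2
  omega

theorem card_centralizer_le : Nat.card (Subgroup.centralizer ({t0} : Set X)) ≤ 1920 := by
  have h83 : 83 < dD.n := by rw [n_eq]; norm_num
  have h := Cfsg.Agent.Helper9.HeC.card_centralizer_mul_le (G := X) (Ω := Fin dD.n) t0
    (⟨83, h83⟩ : Fin dD.n) 11 11 (le_of_eq card_fix_t0) cG ?_ ?_ cG_inj
  · rw [card_GS, Fintype.card_fin] at h
    generalize Nat.card ↥(Subgroup.centralizer ({t0} : Set X)) = c at h ⊢
    change c * (11 * 315) ≤ 604800 * 11 at h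
    omega
  · intro i _
    exact ⟨gW core (nthW cwC i), rfl⟩
  · intro i hi
    apply Fin.ext
    change ((cG i).1 (⟨83, h83⟩ : Fin dD.n)).val = 83
    rw [comp_cG i ⟨83, h83⟩]
    exact Nat.eq_of_beq_eq_true (allB_true cl_fix hi)

/-! ### the data -/

theorem cdata : CData t0 Q0 H0 where
  tQ := t0_mem
  t1 := t0_ne
  cardQ := card_Q0
  cardH := card_H0
  cardC := card_centralizer_le
  hQC := Q0_comm_t0
  hHC := H0_comm_t0
  norm := H0_norm
  disj := Q0_H0_disj
  comm := Q0_comm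
  sq := Q0_sq
  center := Q0_center
  isoH := H0_iso

/-! ### the reflections -/

theorem equiv_gRefl : J2EquivGS (QuotientGroup.mk (gRefl 0)) = t0 := by
  apply Subtype.ext
  have h1 : (J2EquivGS (QuotientGroup.mk (gRefl 0))).1 = rhoT (gRefl 0) := rfl
  rw [h1, rhoT_gRefl]
  exact (letter_eq 0).symm

instance finite_J2 : Finite Cfsg.Spor.J2 := Nat.finite_of_card_ne_zero (by rw [card_J2]; norm_num)

/-- the centralizer of a reflection in the Hall–Janko group. -/
theorem centralizer_refl (f : Equiv.Perm ↥Cfsg.Spor.icoLeech) (hf : Cfsg.Spor.IsIcoReflection f)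
    (hfm : f ∈ Cfsg.Spor.twoJ2) :
    ∃ (Q : Subgroup ↥(Subgroup.centralizer
        {(QuotientGroup.mk ⟨f, hfm⟩ : Cfsg.Spor.J2)})) (_ : Q.Normal),
      Nat.card Q = 32 ∧ Cfsg.IsExtraspecial 2 Q ∧
      Nonempty (↥(Subgroup.centralizer {(QuotientGroup.mk ⟨f, hfm⟩ : Cfsg.Spor.J2)}) ⧸ Q ≃*
        alternatingGroup (Fin 5)) := by
  have hf0 : Cfsg.Spor.IsIcoReflection (gRefl 0).1 := (refl_iff _).2 ⟨_, rfl⟩
  obtain ⟨g, hg, e⟩ := refl_conj (gRefl 0).1 f hf0 hf
  have c1 := cdata.map J2EquivGS.symm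
  have e1 : J2EquivGS.symm t0 = QuotientGroup.mk (gRefl 0) := by
    rw [← equiv_gRefl]
    exact J2EquivGS.symm_apply_apply _
  have c2 := c1.map (MulAut.conj (QuotientGroup.mk ⟨g, hg⟩ : Cfsg.Spor.J2))
  have e2 : (MulAut.conj (QuotientGroup.mk ⟨g, hg⟩ : Cfsg.Spor.J2)) (J2EquivGS.symm t0) =
      QuotientGroup.mk ⟨f, hfm⟩ := by
    rw [e1, MulAut.conj_apply, ← QuotientGroup.mk_inv, ← QuotientGroup.mk_mul,
      ← QuotientGroup.mk_mul]
    congr 1
    exact Subtype.ext e
  rw [e2] at c2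
  exact c2.main

end Cfsg.Agent.Helper9.J2C

end
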